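import Mathlib
import Cfsg.Agent.Lib.SC6.S3

/-! Definitions for the recognition of `M₁₁` by the normaliser `3² : SD₁₆`. -/

set_option autoImplicit false
set_option linter.unusedSectionVars false
set_option linter.unusedVariables false

namespace H58.ME

open Subgroup H70 H50.SC6

variable {G : Type*} [Group G] [Finite G]

/-- `y` is conjugate to `t`. -/
def Tc (t y : G) : Prop := ∃ c, c * t * c⁻¹ = y

/-- `c` is a 2-element. -/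
def E2 (c : G) : Prop := ∃ k : ℕ, c ^ 2 ^ k = 1

/-- The 2-subgroups of `C(t)` have order at most `n`. -/
def Bd (t : G) (n : ℕ) : Prop := ∀ Y : Subgroup G, IsPGroup 2 Y → (∀ y ∈ Y, y * t = t * y) → Nat.card Y ≤ n

/-- The 2-elements of `C(t)` have order dividing four. -/
def X4 (t : G) : Prop := ∀ c, c * t = t * c → E2 c → c ^ 4 = 1

/-- The elementary abelian 2-subgroups of `C(t)` have order at most eight. -/
def R3 (t : G) : Prop := ∀ Y : Subgroup G, (∀ y ∈ Y, y * y = 1) → (∀ y ∈ Y, y * t = t * y) → Nat.card Y ≤ 8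

/-- The standing hypothesis: `⟨g, h⟩ = 3²`, `⟨a, t⟩ = SD₁₆`, `i = a²`, `z = a⁴`. -/
structure Hy (a i z t g h : G) : Prop where
  ai : a * a = i
  iz : i * i = z
  z2 : z * z = 1
  t2 : t * t = 1
  ta : t * a * t⁻¹ = a * i
  g3 : g * g * g = 1
  g1 : g ≠ 1
  gh : g * h = h * g
  ig : i * g * i⁻¹ = h
  ih : i * h * i⁻¹ = g⁻¹
  gt : g * t = t * g
  th : t * h * t⁻¹ = h⁻¹
  cg : ∀ x, x * g = g * x → ∃ j k : ℕ, x = g ^ j * h ^ k ∨ x = g ^ j * h ^ k * t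
  c3 : ∀ ρ : G, ρ * ρ * ρ = 1 → ρ ≠ 1 → ∃ c, c * g * c⁻¹ = ρ
  no2 : ∀ N : Subgroup G, N.index ≠ 2

/-- `Q` is a normal 2-subgroup of `C(t)` containing `t` but not `z`. -/
structure B0 (z t : G) (Q : Subgroup G) : Prop where
  pQ : IsPGroup 2 Q
  tQ : t ∈ Q
  Qt : ∀ q ∈ Q, q * t = t * q
  nQ : ∀ c, c * t = t * c → Nm c Q
  zQ : z ∉ Q

/-- Case (i): `C(t)` has a quotient `S₃` with nilpotent kernel. -/
structure C1 (z t g : G) (Q : Subgroup G) : Prop extends B0 z t Q where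
  le2 : ∀ Y : Subgroup G, IsPGroup 2 Y → (∀ y ∈ Y, y * t = t * y) → Le2 Q Y
  inv : ∀ y, y * t = t * y → y * y = 1 → y ∉ Q → 3 ∣ orderOf (y * (g * y * g⁻¹))

/-- Case (ii): `C(t) / Q = A₅`; `T / Q` is the four-group containing the image of `z`. -/
structure C2 (z t z1 γ : G) (Q T : Subgroup G) : Prop extends B0 z t Q where
  pT : IsPGroup 2 T
  QT : Q ≤ T
  zT : z ∈ T
  Tt : ∀ r ∈ T, r * t = t * r
  γ3 : γ * γ * γ = 1
  γ1 : γ ≠ 1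
  γt : γ * t = t * γ
  γT : Nm γ T
  γz : γ * z * γ⁻¹ = z1
  sq : ∀ q ∈ Q, q * q ∈ zpowers t
  sq2 : ∀ c, c * t = t * c → E2 c → c * c ∈ Q
  dec : ∀ r ∈ T, r ∈ Q ∨ r * z ∈ Q ∨ r * z1 ∈ Q ∨ r * (z * z1) ∈ Q
  cz : ∀ c, c * t = t * c → c * z = z * c → c ∈ T
  nz : ∀ c, c * t = t * c → E2 c → c * z * c⁻¹ ∈ T → c ∈ T
  bd : Bd t (Nat.card T)

/-- Case (iii): `C(t) / ⟨t⟩ = L₂(7)`. -/
structure C3 (z t z1 z2 γ δ : G) : Prop where
  γ3 : γ * γ * γ = 1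
  γ1 : γ ≠ 1
  γt : γ * t = t * γ
  δ3 : δ * δ * δ = 1
  δ1 : δ ≠ 1
  δt : δ * t = t * δ
  γz : γ * z * γ⁻¹ = z1
  δz : δ * z * δ⁻¹ = z2
  zz1 : z * z1 = z1 * z
  zz2 : z * z2 = z2 * z
  γz1 : Md t (γ * z1 * γ⁻¹) (z * z1)
  δz2 : Md t (δ * z2 * δ⁻¹) (z * z2)
  n12 : Md t (z1 * z2 * z1⁻¹) (z * z2)
  cV : ∀ c, c * t = t * c → c * z = z * c →
    c ∈ V4 t z ∨ c * z1 ∈ V4 t z ∨ c * z2 ∈ V4 t z ∨ c * (z1 * z2) ∈ V4 t z
  bd : Bd t 16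
  x4 : X4 t
  r3 : R3 t

/-- The intersection of `Q` with its conjugate under `i`. -/
def D0 (Q : Subgroup G) (i : G) : Subgroup G := Q ⊓ Q.comap (MulAut.conj i).toMonoidHom

theorem mem_D0 {Q : Subgroup G} {i y : G} : y ∈ D0 Q i ↔ y ∈ Q ∧ i * y * i⁻¹ ∈ Q := Iff.rfl

/-- An involution `x` in the centre of `D0` fixed by `i`; `ρ` permutes `t`, `t z`, `z x` cyclically. -/
structure XD (i z t g x w ρ : G) (Q : Subgroup G) : Prop where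
  xQ : x ∈ Q
  x2 : x * x = 1
  x1 : x ≠ 1
  xt1 : x ≠ t
  ix : i * x = x * i
  xt : x * t = t * x
  xz : x * z = z * x
  xc : ∀ y ∈ D0 Q i, y * x = x * y
  od : x * (g * x * g⁻¹) * (g * (g * x * g⁻¹) * g⁻¹) = t
  hw : g * (t * x) * g⁻¹ = w
  wQ : w ∈ Q
  w2 : w * w = 1
  wt : w * t = t * w
  wx : w * x = x * w
  wz : w * (t * z) * w⁻¹ = z * x
  ρ3 : ρ * ρ * ρ = 1
  ρ1 : ρ ≠ 1
  ρx : ρ * x = x * ρ
  ρt : ρ * t * ρ⁻¹ = t * z
  ρz : ρ * (t * z) * ρ⁻¹ = z * x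
  ρw : ρ * (z * x) * ρ⁻¹ = t
  wρ : w * ρ * w⁻¹ = ρ⁻¹
  cρ : ∀ y, y * w = w * y → y * (i * w * i⁻¹) = i * w * i⁻¹ * y → y * ρ = ρ * y
  tx : Tc t x

/-- The 2-elements of `C(t, z)` lie in `E`. -/
def CV (z t : G) (E : Subgroup G) : Prop := ∀ r, E2 r → r * t = t * r → r * z = z * r → r ∈ E

/-- A four-group `F = ⟨z, z1⟩` of involutions not conjugate to `t`, with `C(t) ∩ C(F) = ⟨t⟩ × F`. -/
structure FD (z t z1 γ j : G) : Prop where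
  γ3 : γ * γ * γ = 1
  γ1 : γ ≠ 1
  γt : γ * t = t * γ
  γz : γ * z * γ⁻¹ = z1
  γz1 : γ * z1 * γ⁻¹ = z * z1
  zz1 : z * z1 = z1 * z
  cF : ∀ c, c * t = t * c → c * z = z * c → c * z1 = z1 * c → c ∈ W8 z z1 t
  jz : j * z = z * j
  jz1 : j * z1 = z1 * j
  jt : j * t * j⁻¹ = t * z
  nT : ¬ Tc t z
  r3 : R3 t

/-- `P = A ⟨t⟩` is a `γ`-invariant Sylow 2-subgroup of `C(F)`. -/
structure PD (z t z1 γ b : G) (P A : Subgroup G) : Prop where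
  pP : IsPGroup 2 P
  Pz : ∀ p ∈ P, p * z = z * p
  Pz1 : ∀ p ∈ P, p * z1 = z1 * p
  tP : t ∈ P
  mx : ∀ Y : Subgroup G, IsPGroup 2 Y → P ≤ Y → (∀ y ∈ Y, y * z = z * y) → (∀ y ∈ Y, y * z1 = z1 * y) → Y ≤ P
  γP : Nm γ P
  AP : A ≤ P
  le2 : Le2 A P
  tA : t ∉ A
  zA : z ∈ A
  z1A : z1 ∈ A
  fp : FP A ⊥ γ
  bA : b ∈ A
  bt : b * t * b⁻¹ = t * z
  noT : ∀ s ∈ A, ¬ Tc t s
  fr : ∀ n, Nm n (V4 z z1) → ∃ c y, c * z = z * c ∧ c * z1 = z1 * c ∧ n = c * y ∧ Nm y P ∧ y * t = t * y ∧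
    (y * γ * y⁻¹ = γ ∨ y * γ * y⁻¹ = γ⁻¹)

/-- Case (iii) in normal form. -/
structure N3 (z t z1 z2 γ δ j1 j2 : G) : Prop where
  f1 : FD z t z1 γ j1
  f2 : FD z t z2 δ j2
  n12 : z1 * z2 * z1⁻¹ = z * z2
  cV : ∀ c, c * t = t * c → c * z = z * c →
    c ∈ V4 t z ∨ c * z1 ∈ V4 t z ∨ c * z2 ∈ V4 t z ∨ c * (z1 * z2) ∈ V4 t z
  bd : Bd t 16

/-- The elementary abelian group `⟨z, z1, b, b'⟩` of order sixteen. -/
structure BD (z t z1 z2 γ b b' : G) : Prop where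
  b2 : b * b = 1
  bz : b * z = z * b
  bz1 : b * z1 = z1 * b
  bz2 : b * z2 = z2 * b
  bt : b * t * b⁻¹ = t * z
  γb : γ * b * γ⁻¹ = b'
  bb : b * b' = b' * b
  γb' : γ * b' * γ⁻¹ = b * b'
  inv : z2 * γ * z2⁻¹ = γ⁻¹ ∨ z * z2 * γ * (z * z2)⁻¹ = γ⁻¹
  noT : ∀ y ∈ closure ({z, z1, b, b'} : Set G), ¬ Tc t y

/-- The final 2-group of order `128` in case (iii). -/
structure UD (z t z1 z2 b b1 b2 β k : G) : Prop where
  z1n : z ≠ 1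
  zq : z * z = 1
  tq : t * t = 1
  z1q : z1 * z1 = 1
  z2q : z2 * z2 = 1
  bq : b * b = 1
  b1q : b1 * b1 = 1
  b2q : b2 * b2 = 1
  zt : z * t = t * z
  zz1 : z * z1 = z1 * z
  zz2 : z * z2 = z2 * z
  zb : z * b = b * z
  zb1 : z * b1 = b1 * z
  zb2 : z * b2 = b2 * z
  bz1 : b * z1 = z1 * b
  bz2 : b * z2 = z2 * b
  bb1 : b * b1 = b1 * b
  bb2 : b * b2 = b2 * b
  z1b1 : z1 * b1 = b1 * z1
  z2b2 : z2 * b2 = b2 * z2
  tz1 : t * z1 = z1 * t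
  tz2 : t * z2 = z2 * t
  bt : b * t = t * z * b
  b1t : b1 * t = t * z1 * b1
  b2t : b2 * t = t * z2 * b2
  n12 : z2 * z1 = z * (z1 * z2)
  nb1 : z2 * b1 = b * (b1 * z2)
  nb2 : b2 * z1 = β * (z1 * b2)
  nk : b2 * b1 = k * (b1 * b2)
  good : (β = b * z ∧ k = z) ∨ (β = b ∧ k = b * z)
  ne1 : z1 ∉ zpowers z
  nT1 : ∀ y ∈ closure ({z, z1, b, b1} : Set G), ¬ Tc t y
  nT2 : ∀ y ∈ closure ({z, z2, b, b2} : Set G), ¬ Tc t y
  bd : Bd t 16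

namespace Tc
variable {t y s : G}

theorem rfl' : Tc t t := ⟨1, by simp⟩
theorem cj (h : Tc t y) (c : G) : Tc t (c * y * c⁻¹) := by
  obtain ⟨d, rfl⟩ := h
  exact ⟨c * d, by group⟩
theorem of_cj {c : G} (h : Tc t (c * y * c⁻¹)) : Tc t y := by simpa [mul_assoc] using h.cj c⁻¹
theorem of_eq {c u : G} (h : Tc t y) (e : c * y * c⁻¹ = u) : Tc t u := e ▸ h.cj c
theorem symm (h : Tc t y) : Tc y t := by
  obtain ⟨d, rfl⟩ := h
  exact ⟨d⁻¹, by group⟩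
theorem trans (h : Tc t y) (h' : Tc y s) : Tc t s := by
  obtain ⟨d, rfl⟩ := h'
  exact h.cj d
theorem sq (h : Tc t y) (t2 : t * t = 1) : y * y = 1 := by
  obtain ⟨d, rfl⟩ := h
  exact sq_cj t2 d
theorem ne_one (h : Tc t y) (t1 : t ≠ 1) : y ≠ 1 := by
  obtain ⟨d, rfl⟩ := h
  exact cj_ne_one t1 d

end Tc

namespace E2
variable {a b : G}

theorem of_sq (h : a * a = 1) : E2 a := ⟨1, by rw [pow_one, pow_two, h]⟩
theorem of_mem {Y : Subgroup G} (hY : IsPGroup 2 Y) (ha : a ∈ Y) : E2 a := exists_pow_two hY ha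
theorem cj (h : E2 a) (c : G) : E2 (c * a * c⁻¹) := by
  obtain ⟨k, hk⟩ := h
  exact ⟨k, by rw [conj_pow, hk]; group⟩
theorem inv (h : E2 a) : E2 a⁻¹ := by
  obtain ⟨k, hk⟩ := h
  exact ⟨k, by rw [inv_pow, hk, inv_one]⟩
theorem mul (h : E2 a) (h' : E2 b) (c : a * b = b * a) : E2 (a * b) := by
  obtain ⟨k, hk⟩ := h
  obtain ⟨l, hl⟩ := h'
  exact ⟨k + l, by
    rw [(show Commute a b from c).mul_pow, pow_add, pow_mul, hk, one_pow, pow_mul' b, hl, one_pow, mul_one]⟩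
theorem of_mul_self (h : E2 (a * a)) : E2 a := by
  obtain ⟨k, hk⟩ := h
  exact ⟨k + 1, by rw [pow_succ' 2, pow_mul, pow_two, hk]⟩
theorem pg (h : E2 a) : IsPGroup 2 (zpowers a) := by
  obtain ⟨k, hk⟩ := h
  rintro ⟨_, n, rfl⟩
  exact ⟨k, Subtype.ext (by
    show (a ^ n) ^ 2 ^ k = 1
    rw [← zpow_natCast, ← zpow_mul, mul_comm, zpow_mul, zpow_natCast, hk, one_zpow])⟩
theorem not_three (h : E2 a) : ¬ 3 ∣ orderOf a := fun e => by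
  obtain ⟨k, hk⟩ := h
  have := Nat.prime_three.dvd_of_dvd_pow (e.trans (orderOf_dvd_of_pow_eq_one hk))
  omega

end E2

theorem mem_W8 {t s u x : G} (t2 : t * t = 1) (s2 : s * s = 1) (u2 : u * u = 1) (st : s * t = t * s)
    (ut : u * t = t * u) (us : u * s = s * u) : x ∈ W8 t s u ↔ x ∈ V4 t s ∨ x * u ∈ V4 t s :=
  mem_sup2 (fun d hd => by rwa [cj_eq (comm_V4 ut us hd)]) (u2 ▸ one_mem _)

theorem V4_cases {t s x : G} (t2 : t * t = 1) (s2 : s * s = 1) (st : s * t = t * s) :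
    x ∈ V4 t s ↔ x = 1 ∨ x = t ∨ x = s ∨ x = s * t := by
  rw [mem_V4 t2 s2 st, mem_zt t2, Md, or_assoc]

theorem W8_le {t s u : G} {X : Subgroup G} (ht : t ∈ X) (hs : s ∈ X) (hu : u ∈ X) : W8 t s u ≤ X :=
  sup_le (V4_le ht hs) (zpowers_le.2 hu)

theorem comm_W8 {t s u g x : G} (h1 : g * t = t * g) (h2 : g * s = s * g) (h3 : g * u = u * g) (hx : x ∈ W8 t s u) :
    g * x = x * g :=
  (mem_centralizer_singleton_iff.1 (W8_le (X := centralizer {g}) (mem_centralizer_singleton_iff.2 h1.symm)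
    (mem_centralizer_singleton_iff.2 h2.symm) (mem_centralizer_singleton_iff.2 h3.symm) hx)).symm

theorem Bd.tc {t s : G} {n : ℕ} (h : Bd t n) (c : Tc t s) : Bd s n := fun Y hY hc => by
  obtain ⟨d, rfl⟩ := c
  rw [← H72.card_map_conj d⁻¹ Y]
  refine h _ (H72.isPGroup_map_conj hY d⁻¹) fun y hy => ?_
  have := comm_cj (hc _ (H72.mem_map_conj.1 hy)) d⁻¹
  simpa [mul_assoc] using this

theorem R3.tc {t s : G} (h : R3 t) (c : Tc t s) : R3 s := fun Y hY hc => by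
  obtain ⟨d, rfl⟩ := c
  rw [← H72.card_map_conj d⁻¹ Y]
  refine h _ (fun y hy => ?_) fun y hy => ?_
  · have := sq_cj (hY _ (H72.mem_map_conj.1 hy)) d⁻¹
    simpa [mul_assoc] using this
  · have := comm_cj (hc _ (H72.mem_map_conj.1 hy)) d⁻¹
    simpa [mul_assoc] using this

theorem X4.tc {t s : G} (h : X4 t) (c : Tc t s) : X4 s := fun y hc hy => by
  obtain ⟨d, rfl⟩ := c
  have := h (d⁻¹ * y * d⁻¹⁻¹) (by simpa [mul_assoc] using comm_cj hc d⁻¹) (hy.cj _)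
  rw [conj_pow, mul_inv_eq_one, inv_mul_eq_iff_eq_mul, mul_inv_cancel] at this
  exact this

theorem Bd.r3 {t : G} (h : Bd t 8) : R3 t := fun Y hY hc =>
  h Y (fun a => ⟨1, Subtype.ext (by simpa [pow_two] using hY a a.2)⟩) hc

/-- An element that moves `y` while its cube fixes `y` has order divisible by three. -/
theorem three_dvd {p y : G} (h1 : p * y * p⁻¹ ≠ y) (h3 : p * (p * (p * y * p⁻¹) * p⁻¹) * p⁻¹ = y) :
    3 ∣ orderOf p := by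
  by_contra hn
  have c3 : Commute (p ^ 3) y := comm_of_cj (by rw [← h3]; nth_rewrite 1 [h3]; rw [pow_three']; group)
  have hc : (orderOf p).Coprime 3 := ((Nat.Prime.coprime_iff_not_dvd Nat.prime_three).2 hn).symm
  obtain ⟨m, hm⟩ := exists_pow_eq_self_of_coprime (x := p) (n := 3) hc.symm
  exact h1 (cj_eq (hm ▸ c3.pow_left m : Commute p y))

end H58.ME
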