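import Mathlib
import Cfsg.Agent.Lib.M11T.Defs
import Cfsg.Agent.Lib.Inv73.Transfer

set_option autoImplicit false
set_option linter.unusedSectionVars false
set_option linter.unusedVariables false

namespace H58.ME

open Subgroup H70 H50.SC6

variable {G : Type*} [Group G] [Finite G]

/-- A 2-subgroup that is self-normalising in every larger 2-subgroup is a Sylow subgroup. -/
theorem exists_syl {S : Subgroup G} (pS : IsPGroup 2 S)
    (mx : ∀ Y : Subgroup G, IsPGroup 2 Y → S ≤ Y → ∀ n ∈ Y, Nm n S → n ∈ S) : ∃ P : Sylow 2 G, (P : Subgroup G) = S := by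
  have : Fact (Nat.Prime 2) := ⟨Nat.prime_two⟩
  obtain ⟨P, hP⟩ := pS.exists_le_sylow
  refine ⟨P, ?_⟩
  by_contra hne
  have := P.isPGroup'.isNilpotent
  have hlt : S.subgroupOf P < ⊤ := lt_top_iff_ne_top.2 fun e => hne (le_antisymm (subgroupOf_eq_top.1 e) hP)
  obtain ⟨n, hn, hn'⟩ := SetLike.exists_of_lt (Group.normalizerCondition_of_isNilpotent _ hlt)
  exact hn' (mx P P.isPGroup' hP n n.2 fun d hd => (mem_normalizer_iff.1 hn ⟨d, hP hd⟩).1 hd)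

theorem pg_sup {A : Subgroup G} {w : G} (hA : IsPGroup 2 A) (hn : Nm w A) (hw : E2 w) :
    IsPGroup 2 (A ⊔ zpowers w : Subgroup G) := by
  have : Fact (Nat.Prime 2) := ⟨Nat.prime_two⟩
  rw [sup_comm]
  exact hw.pg.to_sup_of_normal_right' hA (zpowers_le.2 hn.norm)

theorem pg_V4 {t s : G} (t2 : t * t = 1) (s2 : s * s = 1) (st : s * t = t * s) : IsPGroup 2 (V4 t s) :=
  pg_sup (pg2 t2) (nm_zt t2 st) (.of_sq s2)

theorem pg_W8 {t s u : G} (t2 : t * t = 1) (s2 : s * s = 1) (u2 : u * u = 1) (st : s * t = t * s)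
    (ut : u * t = t * u) (us : u * s = s * u) : IsPGroup 2 (W8 t s u) :=
  pg_sup (pg_V4 t2 s2 st) (fun d hd => by rwa [cj_eq (comm_V4 ut us hd)]) (.of_sq u2)

theorem sq_V4 {t s x : G} (t2 : t * t = 1) (s2 : s * s = 1) (st : s * t = t * s) (hx : x ∈ V4 t s) : x * x = 1 := by
  rcases (V4_cases t2 s2 st).1 hx with e | e | e | e <;> rw [e]
  exacts [one_mul _, t2, s2, sq_of_comm s2 t2 st]

theorem sq_W8 {t s u x : G} (t2 : t * t = 1) (s2 : s * s = 1) (u2 : u * u = 1) (st : s * t = t * s)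
    (ut : u * t = t * u) (us : u * s = s * u) (hx : x ∈ W8 t s u) : x * x = 1 := by
  rcases (mem_W8 t2 s2 u2 st ut us).1 hx with e | e
  · exact sq_V4 t2 s2 st e
  · have := sq_of_comm (sq_V4 t2 s2 st e) u2 (comm_V4 ut us e).symm
    rwa [mul_assoc x, u2, mul_one] at this

/-- Adjoining an element outside doubles the order. -/
theorem card_sup2 {A : Subgroup G} {w : G} (hn : Nm w A) (hw : w * w ∈ A) (h : w ∉ A) :
    Nat.card (A ⊔ zpowers w : Subgroup G) = 2 * Nat.card A :=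
  card_le2 (le2_sup hn hw) le_sup_left fun e => h (e (mem_sup_right (mem_zpowers w)))

theorem card_sup2_le {A : Subgroup G} {w : G} (hn : Nm w A) (hw : w * w ∈ A) :
    Nat.card (A ⊔ zpowers w : Subgroup G) ≤ 2 * Nat.card A := by
  have := (le2_sup hn hw).card_le
  rwa [inf_eq_left.2 le_sup_left] at this

theorem card_zt {t : G} (t2 : t * t = 1) (t1 : t ≠ 1) : Nat.card (zpowers t) = 2 := by
  rw [Nat.card_zpowers, ord2 t2 t1]

theorem card_zt_le {t : G} (t2 : t * t = 1) : Nat.card (zpowers t) ≤ 2 := by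
  by_cases t1 : t = 1
  · simp [t1]
  · exact (card_zt t2 t1).le

theorem card_V4 {t s : G} (t2 : t * t = 1) (s2 : s * s = 1) (st : s * t = t * s) (t1 : t ≠ 1) (s1 : s ≠ 1)
    (n : s ≠ t) : Nat.card (V4 t s) = 4 := by
  rw [V4, card_sup2 (nm_zt t2 st) (s2 ▸ one_mem _) fun e => ((mem_zt t2).1 e).elim s1 n, card_zt t2 t1]

theorem card_W8_le {t s u : G} (t2 : t * t = 1) (s2 : s * s = 1) (u2 : u * u = 1) (st : s * t = t * s)
    (ut : u * t = t * u) (us : u * s = s * u) : Nat.card (W8 t s u) ≤ 8 := by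
  have h1 := card_sup2_le (A := V4 t s) (w := u) (fun d hd => by rwa [cj_eq (comm_V4 ut us hd)]) (u2 ▸ one_mem _)
  have h2 := card_sup2_le (nm_zt t2 st) (s2 ▸ one_mem _)
  have h3 := card_zt_le t2
  rw [V4] at h1
  rw [W8, V4]
  omega

theorem one_of_inv {g : G} (g3 : g * g * g = 1) (e : g = g⁻¹) : g = 1 := by
  rw [← g3]; nth_rewrite 3 [e]; simp

theorem cube_cj {g : G} (g3 : g * g * g = 1) (c : G) : c * g * c⁻¹ * (c * g * c⁻¹) * (c * g * c⁻¹) = 1 := by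
  rw [show c * g * c⁻¹ * (c * g * c⁻¹) * (c * g * c⁻¹) = c * (g * g * g) * c⁻¹ by group, g3]; group

theorem cube_inv {g : G} (g3 : g * g * g = 1) : g⁻¹ * g⁻¹ * g⁻¹ = 1 := by
  rw [← mul_inv_rev, ← mul_inv_rev, ← mul_assoc, g3, inv_one]

theorem inv_cube {g : G} (g3 : g * g * g = 1) : g⁻¹ = g * g := inv_eq_of_mul_eq_one_left g3

namespace Hy
variable {a i z t g h : G} (H : Hy a i z t g h)
include H

theorem h3 : h * h * h = 1 := H.ig ▸ cube_cj H.g3 i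
theorem h1 : h ≠ 1 := H.ig ▸ cj_ne_one H.g1 i
theorem t1 : t ≠ 1 := fun e => H.h1 (one_of_inv H.h3 (by simpa [e] using H.th))
theorem zg : z * g * z⁻¹ = g⁻¹ := by rw [← H.iz, ← H.ih, ← H.ig]; group
theorem z1 : z ≠ 1 := fun e => H.g1 (one_of_inv H.g3 (by simpa [e] using H.zg))
theorem zh : z * h * z⁻¹ = h⁻¹ := by
  calc _ = i * (i * h * i⁻¹) * i⁻¹ := by rw [← H.iz]; group
    _ = (i * g * i⁻¹)⁻¹ := by rw [H.ih]; group
    _ = _ := by rw [H.ig]
theorem az : a * z = z * a := by rw [← H.iz, ← H.ai]; group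
theorem izc : i * z = z * i := by rw [← H.iz]; group
theorem a4 : a ^ 4 = z := by rw [← H.iz, ← H.ai]; simp [pow_succ, mul_assoc]
theorem a8 : a ^ 8 = 1 := by rw [show 8 = 4 + 4 from rfl, pow_add, H.a4, H.z2]
theorem iinv : i⁻¹ = i * z := inv_eq_of_mul_eq_one_right (by rw [← mul_assoc, H.iz, H.z2])
theorem ti : t * i * t⁻¹ = i * z := by
  calc _ = t * a * t⁻¹ * (t * a * t⁻¹) := by rw [← H.ai]; group
    _ = _ := by rw [H.ta, ← H.iz, ← H.ai]; group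
theorem zt : z * t = t * z := by
  refine (comm_of_cj ?_).symm
  calc t * z * t⁻¹ = t * i * t⁻¹ * (t * i * t⁻¹) := by rw [← H.iz]; group
    _ = i * i := by rw [H.ti, mul_assoc, ← mul_assoc z, ← H.izc, mul_assoc i z, H.z2, mul_one]
    _ = z := H.iz
theorem it : i * t * i⁻¹ = t * z := by
  calc _ = t * t * i * t * i⁻¹ := by rw [H.t2, one_mul]
    _ = t * (t * i * t⁻¹) * i⁻¹ := by rw [inv_self H.t2]; group
    _ = _ := by rw [H.ti, H.izc]; group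
theorem itz : i * (t * z) * i⁻¹ = t := by
  calc _ = i * t * i⁻¹ * (i * z * i⁻¹) := by group
    _ = _ := by rw [H.it, cj_eq H.izc, mul_assoc, H.z2, mul_one]
theorem zt1 : z ≠ t := fun e => H.g1 (one_of_inv H.g3 (by rw [← H.zg, e, cj_eq H.gt.symm]))
theorem tz1 : t * z ≠ 1 := H.it ▸ cj_ne_one H.t1 i
theorem tz2 : t * z * (t * z) = 1 := H.it ▸ sq_cj H.t2 i
theorem tzg : t * z * g * (t * z)⁻¹ = g⁻¹ := by
  calc _ = t * (z * g * z⁻¹) * t⁻¹ := by group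
    _ = _ := by rw [H.zg, cj_eq (show Commute t g from H.gt.symm).inv_right]
theorem Ttz : Tc t (t * z) := ⟨i, H.it⟩
theorem ea : E2 a := ⟨3, H.a8⟩
theorem ei : E2 i := .of_mul_self (H.iz ▸ .of_sq H.z2)
/-- `a⁻¹ t a` lies in `⟨i, t⟩`. -/
theorem ata : a⁻¹ * t * a = i * t := by
  calc _ = a⁻¹ * (t * a * t⁻¹) * t := by group
    _ = _ := by rw [H.ta]; group
theorem pat : IsPGroup 2 (zpowers a ⊔ zpowers t : Subgroup G) :=
  pg_sup H.ea.pg (fun d hd => by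
    obtain ⟨k, rfl⟩ := hd
    show t * a ^ k * t⁻¹ ∈ _
    rw [← conj_zpow, H.ta, ← H.ai]
    exact zpow_mem (mul_mem (mem_zpowers a) (mul_mem (mem_zpowers a) (mem_zpowers a))) k) (.of_sq H.t2)

theorem m3 (j k : ℕ) : g ^ j * h ^ k * (g ^ j * h ^ k) * (g ^ j * h ^ k) = 1 := by
  rw [← pow_three', ((show Commute g h from H.gh).pow_pow j k).mul_pow, pow_three', pow_three', pow3 H.g3, pow3 H.h3,
    one_mul]

theorem thk (k : ℕ) : t * h ^ k * t⁻¹ = (h ^ k)⁻¹ := by rw [← conj_pow, H.th, inv_pow]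

theorem sqt (j k : ℕ) : g ^ j * h ^ k * t * (g ^ j * h ^ k * t) = g ^ j * g ^ j := by
  have c1 : Commute t (g ^ j) := (show Commute t g from H.gt.symm).pow_right j
  have c2 : Commute (h ^ k) (g ^ j) := (show Commute h g from H.gh.symm).pow_pow k j
  calc _ = g ^ j * (h ^ k * t * g ^ j * (h ^ k * t)⁻¹) * h ^ k * (t * h ^ k * t⁻¹) * (t * t) := by group
    _ = _ := by rw [cj_eq (c2.mul_left c1), H.thk, H.t2]; group

theorem two_el {x : G} (e : E2 x) (c : x * g = g * x) : x = 1 ∨ ∃ k : ℕ, x = h ^ k * t := by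
  obtain ⟨j, k, r | r⟩ := H.cg x c
  · obtain ⟨n, hn⟩ := e
    exact .inl (eq_one_of_two_three hn (r ▸ H.m3 j k))
  · obtain ⟨n, hn⟩ := e.mul e rfl
    rw [r, H.sqt] at hn
    have h1 : g ^ j * g ^ j = 1 := eq_one_of_two_three hn (by rw [← pow_add]; exact pow3 H.g3 _)
    have h2 := pow3 H.g3 j
    rw [h1, one_mul] at h2
    exact .inr ⟨k, by rw [r, h2, one_mul]⟩

theorem sm : Sm G := by
  intro ρ r3 r1 D hD u hu v hv cu cv u1 v1
  obtain ⟨c, rfl⟩ := H.c3 ρ r3 r1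
  have k : ∀ w ∈ D, c * g * c⁻¹ * w = w * (c * g * c⁻¹) → w ≠ 1 → ∃ n : ℕ, c⁻¹ * w * c⁻¹⁻¹ = h ^ n * t :=
    fun w hw e w1 => (H.two_el ((E2.of_mem hD hw).cj c⁻¹) (by
      simpa [mul_assoc] using (comm_cj e c⁻¹).symm)).resolve_left (cj_ne_one w1 _)
  obtain ⟨m, hm⟩ := k u hu cu u1
  obtain ⟨n, hn⟩ := k v hv cv v1
  obtain ⟨l, hl⟩ := (E2.of_mem hD (mul_mem hu (inv_mem hv))).cj c⁻¹
  have e : c⁻¹ * (u * v⁻¹) * c⁻¹⁻¹ = g ^ 0 * h ^ (m + 2 * n) := by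
    calc _ = c⁻¹ * u * c⁻¹⁻¹ * (c⁻¹ * v * c⁻¹⁻¹)⁻¹ := by group
      _ = h ^ m * (h ^ n)⁻¹ := by rw [hm, hn]; group
      _ = _ := by rw [inv_cube (pow3 H.h3 n)]; group
  have := eq_one_of_two_three hl (e ▸ H.m3 0 _)
  rwa [mul_inv_eq_one, inv_mul_eq_iff_eq_mul, mul_inv_cancel, mul_inv_eq_one] at this

theorem fixT {ρ v : G} (r3 : ρ * ρ * ρ = 1) (r1 : ρ ≠ 1) (v2 : v * v = 1) (v1 : v ≠ 1) (c : ρ * v = v * ρ) :
    Tc t v := by
  obtain ⟨d, rfl⟩ := H.c3 ρ r3 r1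
  obtain ⟨n, hn⟩ := (H.two_el ((E2.of_sq v2).cj d⁻¹) (by
    simpa [mul_assoc] using (comm_cj c d⁻¹).symm)).resolve_left (cj_ne_one v1 _)
  refine .of_cj (c := d⁻¹) ⟨(h ^ n)⁻¹, ?_⟩
  calc _ = (h ^ n)⁻¹ * (t * h ^ n * t⁻¹) * t := by group
    _ = _ := by
      rw [H.thk, hn]
      congr 1
      exact (eq_inv_of_mul_eq_one_left (by rw [← mul_inv_rev, ← mul_inv_rev, pow3 H.h3 n |>.symm.trans (mul_assoc ..) |>.symm, inv_one])).trans (inv_inv _)

theorem hk_one {k : ℕ} (e : h ^ k * t = t * h ^ k) : h ^ k = 1 :=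
  one_of_inv (pow3 H.h3 k) (by rw [← H.thk, cj_eq e.symm])

theorem six : Six t g := fun x xt xg => by
  obtain ⟨j, k, r | r⟩ := H.cg x xg
  · have c : Commute (g ^ j)⁻¹ t := ((show Commute g t from H.gt).pow_left j).inv_left
    have := (c.mul_left xt).eq
    rw [r, inv_mul_cancel_left] at this
    exact ⟨j, .inl (by rw [r, H.hk_one this, mul_one])⟩
  · have c : Commute (g ^ j) t := (show Commute g t from H.gt).pow_left j
    have := ((c.inv_left.mul_left xt).mul_left (Commute.refl t).inv_left).eq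
    rw [r, mul_assoc (g ^ j), inv_mul_cancel_left, mul_inv_cancel_right] at this
    exact ⟨j, .inr (by rw [r, H.hk_one this, mul_one, c.eq])⟩

theorem gh_one {v : G} (v2 : v * v = 1) (c1 : v * g = g * v) (c2 : v * h = h * v) : v = 1 := by
  rcases H.two_el (.of_sq v2) c1 with e | ⟨k, e⟩
  · exact e
  · have c : Commute t h := by
      have := (((Commute.refl h).pow_left k).inv_left.mul_left c2)
      rwa [e, inv_mul_cancel_left] at this
    exact absurd (one_of_inv H.h3 (by rw [← H.th, cj_eq c])) H.h1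

theorem fp {D : Subgroup G} {ρ v : G} (r3 : ρ * ρ * ρ = 1) (r1 : ρ ≠ 1) (hD : IsPGroup 2 D) (nD : Nm ρ D) (vD : v ∈ D)
    (v2 : v * v = 1) (v1 : v ≠ 1) (c : ρ * v = v * ρ) (vc : ∀ d ∈ D, d * v = v * d) : FP D (zpowers v) ρ :=
  FP.of_fix r3 nD (nm_zt v2 c) (fun d hd => nm_zt v2 (vc d hd)) (pg2 v2) (zpowers_le.2 vD) fun x hx e =>
    (mem_zt v2).2 (H.sm.fix r3 r1 hD vD v1 c hx e)

theorem six_pow {x : G} (c : x * g = g * x) : x ^ 6 = 1 := by
  obtain ⟨j, k, r | r⟩ := H.cg x c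
  · rw [show 6 = 3 * 2 from rfl, pow_mul, pow_three', r, H.m3, one_pow]
  · rw [show 6 = 2 * 3 from rfl, pow_mul, pow_two, r, H.sqt, pow_three', ← pow_add]
    exact pow3 H.g3 _

theorem pow3 {p : G} (hp : 3 ∣ orderOf p) : ∃ k : ℕ, k % 3 = 1 ∧ p ^ k * p ^ k * p ^ k = 1 ∧ p ^ k ≠ 1 := by
  obtain ⟨m, hm⟩ := hp
  have o := orderOf_pos p
  have p3 : p ^ m * p ^ m * p ^ m = 1 := by rw [← pow_three', ← pow_mul, mul_comm, ← hm, pow_orderOf_eq_one]
  have p1 : p ^ m ≠ 1 := fun e => by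
    have := Nat.le_of_dvd (by omega) (orderOf_dvd_of_pow_eq_one e)
    omega
  obtain ⟨c, hc⟩ := H.c3 _ p3 p1
  have h6 := H.six_pow (x := c⁻¹ * p * c⁻¹⁻¹) (by
    have := comm_cj (show p * (c * g * c⁻¹) = c * g * c⁻¹ * p by
      rw [hc]; exact (Commute.refl p).pow_right m) c⁻¹
    simpa [mul_assoc] using this)
  rw [conj_pow, mul_inv_eq_one, inv_mul_eq_iff_eq_mul, mul_inv_cancel] at h6
  have d := orderOf_dvd_of_pow_eq_one h6
  refine ⟨4, rfl, ?_, fun e => ?_⟩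
  · rw [← pow_add, ← pow_add, show 4 + 4 + 4 = 6 * 2 from rfl, pow_mul, h6, one_pow]
  · have := Nat.prime_three.dvd_of_dvd_pow ((hm ▸ dvd_mul_right 3 m).trans (orderOf_dvd_of_pow_eq_one (n := 2 ^ 2) e))
    omega

/-- A power of order three of an element that permutes `u`, `v`, `w` cyclically. -/
theorem cyc3 {p u v w : G} (e1 : p * u * p⁻¹ = v) (e2 : p * v * p⁻¹ = w) (e3 : p * w * p⁻¹ = u) (ne : v ≠ u) :
    ∃ k : ℕ, p ^ k * p ^ k * p ^ k = 1 ∧ p ^ k ≠ 1 ∧ p ^ k * u * (p ^ k)⁻¹ = v ∧ p ^ k * v * (p ^ k)⁻¹ = w ∧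
      p ^ k * w * (p ^ k)⁻¹ = u := by
  obtain ⟨k, k1, k2, k3⟩ := H.pow3 (three_dvd (e1 ▸ ne) (by rw [e1, e2, e3]))
  have key : ∀ y, p * (p * (p * y * p⁻¹) * p⁻¹) * p⁻¹ = y → p ^ k * y * (p ^ k)⁻¹ = p * y * p⁻¹ := fun y hy => by
    have c3 : Commute (p ^ 3) y := comm_of_cj (by rw [← hy]; nth_rewrite 1 [hy]; rw [pow_three']; group)
    have := cj_eq (c3.pow_left (k / 3))
    rw [← pow_mul] at this
    rw [show k = 1 + 3 * (k / 3) by omega, pow_add, pow_one, mul_inv_rev]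
    calc _ = p * (p ^ (3 * (k / 3)) * y * (p ^ (3 * (k / 3)))⁻¹) * p⁻¹ := by simp only [mul_assoc]
      _ = _ := by rw [this]
  exact ⟨k, k2, k3, by rw [key u (by rw [e1, e2, e3]), e1], by rw [key v (by rw [e2, e3, e1]), e2],
    by rw [key w (by rw [e3, e1, e2]), e3]⟩

theorem nT (h4 : X4 t) : ¬ Tc t z := fun e => H.z1 (H.a4 ▸ h4.tc e a H.az H.ea)

/-- If all involutions of `C(t)` are conjugate to `t`, there is one class of involutions. -/
theorem one (h1 : ∀ y, y * y = 1 → y ≠ 1 → y * t = t * y → Tc t y) {y : G} (y2 : y * y = 1) (y1 : y ≠ 1) :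
    Tc t y := by
  have : Fact (Nat.Prime 2) := ⟨Nat.prime_two⟩
  obtain ⟨P, hP⟩ := (pg2 H.t2).exists_le_sylow
  have tP := hP (mem_zpowers t)
  obtain ⟨s, hs, s2, s1, sc⟩ := exists_inv_cent P.isPGroup' le_rfl (fun g hg => .of_mem hg)
    fun e => H.t1 (by simpa [e] using tP)
  obtain ⟨c, hc⟩ := h1 s s2 s1 (sc t tP).symm
  obtain ⟨k, -, hk⟩ := H72.exists_conj_mem_sylow_of_le P le_top (pg2 y2) le_top
  have := comm_cj (sc _ (hk y (mem_zpowers y))) c⁻¹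
  rw [← hc, show c⁻¹ * (c * t * c⁻¹) * c⁻¹⁻¹ = t by group] at this
  exact (h1 _ (sq_cj (sq_cj y2 k) _) (cj_ne_one (cj_ne_one y1 k) _) this).of_cj.of_cj

/-- Thompson transfer. -/
theorem tr {S M : Subgroup G} (pS : IsPGroup 2 S) (tS : t ∈ S) (l : Le2 M S)
    (mx : ∀ Y : Subgroup G, IsPGroup 2 Y → S ≤ Y → ∀ n ∈ Y, Nm n S → n ∈ S) (nM : ∀ y ∈ M, y ∈ S → ¬ Tc t y) :
    False := by
  obtain ⟨P, rfl⟩ := exists_syl pS mx
  obtain ⟨N, -, hN, -⟩ := H73.thompson_transfer (P : Subgroup G) (M ⊓ P) (H73.odd_index_sylow P)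
    (l.inf.relIndex_eq fun e => nM t (e tS).1 tS .rfl') t (ord2 H.t2 H.t1) fun c hc => nM _ hc.1 hc.2 ⟨c, rfl⟩
  exact H.no2 N hN

end Hy

theorem N3.symm {a i z t g h z1 z2 γ δ j1 j2 : G} (H : Hy a i z t g h) (c : N3 z t z1 z2 γ δ j1 j2) :
    N3 z t z2 z1 δ γ j2 j1 := by
  have e : z2 * z1 = z * (z1 * z2) := by
    rw [show z1 * z2 = z1 * z2 * z1⁻¹ * z1 by group, c.n12, ← mul_assoc, ← mul_assoc, H.z2, one_mul]
  have q2 : z2 * z2 = 1 := c.f2.γz ▸ sq_cj H.z2 δ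
  refine ⟨c.f2, c.f1, by rw [e]; group, fun d dt dz => ?_, c.bd⟩
  rcases c.cV d dt dz with m | m | m | m
  exacts [.inl m, .inr (.inr (.inl m)), .inr (.inl m), .inr (.inr (.inr (by
    have := mul_mem (s_V4 (t := t) (s := z)) m
    rwa [← mul_assoc, ← dz, mul_assoc, ← e] at this)))]

end H58.ME
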