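import Mathlib
import Cfsg.Agent.Lib.M11T.Bas
import Cfsg.Agent.Lib.SC6.Tri

set_option autoImplicit false
set_option linter.unusedSectionVars false
set_option linter.unusedVariables false

namespace H58.ME

open Subgroup H70 H50.SC6

variable {G : Type*} [Group G] [Finite G]

set_option synthInstance.maxSize 4096 in
theorem TR1.facts : (∀ a : Equiv.Perm (Fin 3), a * a * (a * a) * (a * a) = 1) ∧
    (∀ a b : Equiv.Perm (Fin 3), a * a = 1 → a ≠ 1 → b * b = 1 → b ≠ 1 → a * b * (a * b) = 1 → a * b = 1) ∧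
    ∀ a c : Equiv.Perm (Fin 3), a * a = 1 → a ≠ 1 → c * c * c = 1 → c ≠ 1 →
      a * (c * a * c⁻¹) * (a * (c * a * c⁻¹)) * (a * (c * a * c⁻¹)) = 1 ∧ a * (c * a * c⁻¹) ≠ 1 := by
  refine ⟨by decide +kernel, by decide +kernel, by decide +kernel⟩

/-- the image of `z` is not trivial if the image of `g` is not -/
theorem Hy.fz {a i z t g h : G} (H : Hy a i z t g h) {L : Type*} [Group L] [Finite L] (f : centralizer ({t} : Set G) →* L)
    (hy : g ∉ Kr f) : f ⟨z, mem_centralizer_singleton_iff.2 H.zt⟩ * f ⟨g, mem_centralizer_singleton_iff.2 H.gt⟩ ≠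
      f ⟨g, mem_centralizer_singleton_iff.2 H.gt⟩ * f ⟨z, mem_centralizer_singleton_iff.2 H.zt⟩ := fun e => by
  refine hy ((mem_Kr f H.gt).2 (one_of_inv ?_ ?_))
  · rw [← map_mul, ← map_mul, ← map_one f]; exact congrArg f (Subtype.ext H.g3)
  · nth_rw 1 [← cj_eq e]
    rw [← map_inv, ← map_mul, ← map_mul, ← map_inv]
    exact congrArg f (Subtype.ext H.zg)

theorem Hy.tr1 {a i z t g h : G} (H : Hy a i z t g h) (f : centralizer ({t} : Set G) →* Equiv.Perm (Fin 3))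
    (hN : Group.IsNilpotent (Kr f)) (hy : g ∉ Kr f) (ht : t ∈ Kr f) : ∃ Q, C1 z t g Q := by
  obtain ⟨Q, QN, pQ, nQ, mQ, -⟩ := exists_Q hN
  obtain ⟨s1, s2, s3⟩ := TR1.facts
  have two : ∀ y : centralizer ({t} : Set G), E2 (y : G) → f y * f y = 1 := fun y ⟨k, hk⟩ =>
    eq_one_of_two_three (k := k) (by
      rw [← pow_two, ← pow_mul, mul_comm, pow_mul, ← map_pow, show y ^ 2 ^ k = 1 from Subtype.ext hk, map_one, one_pow])
      (s1 _)
  have ne : ∀ y (c : y * t = t * y), E2 y → y ∉ Q → f ⟨y, mem_centralizer_singleton_iff.2 c⟩ ≠ 1 :=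
    fun y c ⟨k, hk⟩ n e => n (mQ y ((mem_Kr f c).2 e) k hk)
  refine ⟨Q, ⟨pQ, mQ t ht 1 (by rw [pow_one, pow_two, H.t2]), fun q hq => Kr_c f (QN hq),
    fun c hc => nQ c (nm_Kr f hc), fun e => H.fz f hy (by rw [(mem_Kr f H.zt).1 (QN e), mul_one, one_mul])⟩,
    fun Y pY c x hx y hy' n1 n2 => ?_, fun y c y2 n => ?_⟩
  · obtain ⟨k, hk⟩ := E2.of_mem pY (mul_mem hx hy')
    refine mQ _ ((mem_Kr f (c _ (mul_mem hx hy'))).2 ?_) k hk
    have := s2 _ _ (two ⟨x, _⟩ (.of_mem pY hx)) (ne x (c x hx) (.of_mem pY hx) n1) (two ⟨y, _⟩ (.of_mem pY hy'))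
      (ne y (c y hy') (.of_mem pY hy') n2) (by rw [← map_mul]; exact two _ ⟨k, hk⟩)
    rwa [← map_mul] at this
  · have := s3 _ (f ⟨g, mem_centralizer_singleton_iff.2 H.gt⟩) (two ⟨y, _⟩ (.of_sq y2)) (ne y c (.of_sq y2) n)
      (by rw [← map_mul, ← map_mul, ← map_one f]; exact congrArg f (Subtype.ext H.g3))
      fun e => hy ((mem_Kr f H.gt).2 e)
    rw [← ord3 this.1 this.2, ← map_inv, ← map_mul, ← map_mul, ← map_mul]
    exact (orderOf_map_dvd f _).trans (Subgroup.orderOf_coe _).symm.dvd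

end H58.ME
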