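import Mathlib
import Cfsg.Agent.Lib.M11T.TR1

set_option autoImplicit false
set_option linter.unusedSectionVars false
set_option linter.unusedVariables false

namespace H58.ME

open Subgroup H70 H50.SC6

variable {G : Type*} [Group G] [Finite G]

set_option synthInstance.maxSize 4096 in
theorem TR2.fA : ∀ s : Equiv.Perm (Fin 5), s * s = 1 → s ≠ 1 → Equiv.Perm.sign s = 1 →
    ∃ c : Equiv.Perm (Fin 5), c * c * c = 1 ∧ c ≠ 1 ∧ ∀ e : Equiv.Perm (Fin 5), e * s = s * e →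
      Equiv.Perm.sign e = 1 → c * e * c⁻¹ * s = s * (c * e * c⁻¹) ∧ e * e = 1 ∧
        (e = 1 ∨ e * s = 1 ∨ e * (c * s * c⁻¹) = 1 ∨ e * (s * (c * s * c⁻¹)) = 1) := by decide +kernel

set_option synthInstance.maxSize 4096 in
theorem TR2.fB : ∀ s : Equiv.Perm (Fin 5), s * s = 1 → Equiv.Perm.sign s = 1 → ∀ e : Equiv.Perm (Fin 5), e * e = 1 →
    e * s * e⁻¹ * s = s * (e * s * e⁻¹) → Equiv.Perm.sign e = 1 → e * s = s * e := by decide +kernel

set_option synthInstance.maxSize 4096 in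
theorem TR2.fC : ∀ e : Equiv.Perm (Fin 5), Equiv.Perm.sign e = 1 → (e * e) ^ 15 = 1 ∧
    (e * (Equiv.swap 0 1 * Equiv.swap 0 2) = Equiv.swap 0 1 * Equiv.swap 0 2 * e →
      e * (Equiv.swap 2 3 * Equiv.swap 2 4) = Equiv.swap 2 3 * Equiv.swap 2 4 * e → e = 1) := by decide +kernel

theorem Hy.tr2 {a i z t g h : G} (H : Hy a i z t g h) (f : centralizer ({t} : Set G) →* Equiv.Perm (Fin 5))
    (hf : f.range = alternatingGroup (Fin 5)) (hN : ∀ q ∈ Kr f, q * q ∈ zpowers t) :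
    ∃ z1 γ Q T, C2 z t z1 γ Q T := by
  have : Fact (Nat.Prime 2) := ⟨Nat.prime_two⟩
  have mC : ∀ {x : G}, x ∈ centralizer ({t} : Set G) ↔ x * t = t * x := mem_centralizer_singleton_iff
  have ev : ∀ x, Equiv.Perm.sign (f x) = 1 := fun x => Equiv.Perm.mem_alternatingGroup.1 (hf ▸ ⟨x, rfl⟩)
  have sj : ∀ e, Equiv.Perm.sign e = 1 → ∃ x, f x = e := fun e he =>
    (hf ▸ Equiv.Perm.mem_alternatingGroup.2 he : e ∈ f.range)
  have q4 : ∀ q ∈ Kr f, q ^ 4 = 1 := fun q hq => by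
    rw [show 4 = 2 * 2 from rfl, pow_mul, pow_two q, pow_two]
    rcases (mem_zt H.t2).1 (hN q hq) with e | e <;> rw [e]
    exacts [one_mul _, H.t2]
  have mK : ∀ x : centralizer ({t} : Set G), (x : G) ∈ Kr f ↔ f x = 1 := fun x => mem_Kr f (mC.1 x.2)
  have two : ∀ y : centralizer ({t} : Set G), E2 (y : G) → f y * f y = 1 := fun y ⟨k, hk⟩ =>
    orderOf_eq_one_iff.1 (Nat.eq_one_of_dvd_coprimes (Nat.Coprime.pow_left k (by norm_num : Nat.Coprime 2 15))
      (orderOf_dvd_of_pow_eq_one (by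
        rw [← pow_two, ← pow_mul, mul_comm, pow_mul, ← map_pow, show y ^ 2 ^ k = 1 from Subtype.ext hk, map_one,
          one_pow])) (orderOf_dvd_of_pow_eq_one (TR2.fC _ (ev y)).1))
  have cm : ∀ e, Equiv.Perm.sign e = 1 → f ⟨t, mC.2 rfl⟩ * e = e * f ⟨t, mC.2 rfl⟩ := fun e he => by
    obtain ⟨x, rfl⟩ := sj e he
    rw [← map_mul, ← map_mul]; exact congrArg f (Subtype.ext (mC.1 x.2).symm)
  let Z : centralizer ({t} : Set G) := ⟨z, mC.2 H.zt⟩
  have z1 : f Z ≠ 1 := fun e => H.fz f (fun m => H.g1 (eq_one_of_two_three (k := 2) (q4 g m) H.g3))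
    (by rw [show f ⟨z, _⟩ = 1 from e, mul_one, one_mul])
  obtain ⟨c, c3, c1, hc⟩ := TR2.fA _ (two Z (.of_sq H.z2)) z1 (ev Z)
  obtain ⟨c0, rfl⟩ := sj c (by
    have := congrArg Equiv.Perm.sign c3
    rwa [map_mul, map_mul, Int.units_mul_self, one_mul, map_one] at this)
  have f4 : f (c0 ^ 4) = f c0 := by rw [map_pow, pow_succ, pow_three', c3, one_mul]
  have g3 : (c0 : G) ^ 4 * c0 ^ 4 * c0 ^ 4 = 1 := by
    rw [← pow_three', ← pow_mul, mul_comm, pow_mul]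
    exact q4 _ ((mK (c0 ^ 3)).2 (by rw [map_pow, pow_three', c3]))
  rw [← f4] at c1 hc
  change ((c0 ^ 4 : centralizer ({t} : Set G)) : G) * (c0 ^ 4 : centralizer ({t} : Set G)) *
    (c0 ^ 4 : centralizer ({t} : Set G)) = 1 at g3
  generalize c0 ^ 4 = γ at c1 hc g3
  let T' := (centralizer {f Z}).comap f
  have mT : ∀ x : centralizer ({t} : Set G), (x : G) ∈ T'.map (centralizer ({t} : Set G)).subtype ↔
      f x * f Z = f Z * f x := fun x => (mem_map_iff_mem (subtype_injective _)).trans mem_centralizer_singleton_iff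
  have pT : IsPGroup 2 T' := fun x => ⟨3, Subtype.ext (Subtype.ext (by
    have := q4 _ ((mK (x * x)).2 (by rw [map_mul]; exact (hc _ (mem_centralizer_singleton_iff.1 x.2) (ev _)).2.1))
    rw [coe_mul, ← pow_two, ← pow_mul] at this
    exact this))⟩
  refine ⟨γ * z * (γ : G)⁻¹, γ, Kr f, T'.map (centralizer ({t} : Set G)).subtype,
    ⟨fun q => ⟨2, Subtype.ext (q4 q q.2)⟩, (mK ⟨t, mC.2 rfl⟩).2 ((TR2.fC _ (ev _)).2 (cm _ (by simp)) (cm _ (by simp))),
      fun q => Kr_c f, fun c => nm_Kr f, fun e => z1 ((mK Z).1 e)⟩, pT.map _, fun q hq => ?_, (mT Z).2 rfl, ?_, g3,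
    fun e => c1 (by rw [show γ = 1 from Subtype.ext e, map_one]), mC.1 γ.2, ?_, rfl, hN,
    fun c ct e => (mK (⟨c, mC.2 ct⟩ * ⟨c, mC.2 ct⟩)).2 (by rw [map_mul]; exact two _ e), ?_,
    fun c ct e => (mT ⟨c, mC.2 ct⟩).2 (by rw [← map_mul, ← map_mul]; exact congrArg f (Subtype.ext e)),
    fun c ct e m => (mT ⟨c, mC.2 ct⟩).2 (TR2.fB _ (two Z (.of_sq H.z2)) (ev _) _ (two _ e) (by
      simpa only [map_mul, map_inv] using (mT (⟨c, mC.2 ct⟩ * Z * ⟨c, mC.2 ct⟩⁻¹)).1 m) (ev _)), fun Y pY c => ?_⟩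
  · exact (mT ⟨q, mC.2 (Kr_c f hq)⟩).2 (by rw [(mK ⟨q, _⟩).1 hq, mul_one, one_mul])
  · rintro _ ⟨x, -, rfl⟩
    exact mC.1 x.2
  · rintro _ ⟨x, hx, rfl⟩
    exact (mT (γ * x * γ⁻¹)).2 (by
      rw [map_mul, map_mul, map_inv]; exact (hc _ (mem_centralizer_singleton_iff.1 hx) (ev _)).1)
  · rintro _ ⟨x, hx, rfl⟩
    have := (hc _ (mem_centralizer_singleton_iff.1 hx) (ev _)).2.2
    simp only [← map_inv, ← map_mul, ← mK] at this
    exact this
  · obtain ⟨S, hS⟩ := pT.exists_le_sylow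
    obtain ⟨P, hP⟩ := (pY.comap_subtype (K := centralizer ({t} : Set G))).exists_le_sylow
    have e2 : ∀ x ∈ (S : Subgroup (centralizer ({t} : Set G))), f x * f x = 1 := fun x hx =>
      two x ((S.2 ⟨x, hx⟩).imp fun _ e => congrArg (fun y : S => (y.1 : G)) e)
    have zS := hS (show Z ∈ T' from mem_centralizer_singleton_iff.2 rfl)
    have l : (S : Subgroup (centralizer ({t} : Set G))) ≤ T' := fun x hx => mem_centralizer_singleton_iff.2
      (comm_of_sq (e2 x hx) (e2 Z zS) (by rw [← map_mul]; exact e2 _ (mul_mem hx zS)))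
    rw [card_map_of_injective (subtype_injective _), ← Nat.card_congr (subgroupOfEquivOfLe fun y hy => mC.2 (c y hy)).toEquiv]
    exact ((card_le_of_le hP).trans (Nat.card_congr (Sylow.equiv P S).toEquiv).le).trans (card_le_of_le l)

end H58.ME
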