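import Mathlib
import Cfsg.Agent.Lib.M11T.Bas
import Cfsg.Agent.Lib.SC6.Tri
import Cfsg.Agent.Lib.SL2Elt.Order

set_option autoImplicit false
set_option linter.unusedSectionVars false
set_option linter.unusedVariables false

namespace H58.ME

open Subgroup H70 H50.SC6
open scoped MatrixGroups

variable {G : Type*} [Group G] [Finite G]

namespace TR3

open H64.SL2

instance : Fact (Nat.Prime 7) := ⟨by norm_num⟩

theorem conj {a b : PSL(2, ZMod 7)} (a2 : a * a = 1) (a1 : a ≠ 1) (b2 : b * b = 1) (b1 : b ≠ 1) : IsConj a b := by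
  have h4 : (0 : ZMod 7) ^ 2 ≠ 4 := by decide
  have key : ∀ a : PSL(2, ZMod 7), a * a = 1 → a ≠ 1 → IsConj (proj (comp 0)) a := fun a a2 a1 => by
    obtain ⟨a, rfl⟩ := proj_surjective a
    have h := (mem_center_or_tr_eq_zero_of_sq (proj_eq_one_iff.1 (by rw [map_mul, a2]))).resolve_left
      fun e => a1 (proj_eq_one_iff.2 e)
    exact proj.map_isConj (h ▸ isConj_comp (by rw [h]; exact h4))
  exact (key a a2 a1).symm.trans (key b b2 b1)

set_option synthInstance.maxSize 100000 in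
theorem facts {s : PSL(2, ZMod 7)} (s2 : s * s = 1) (s1 : s ≠ 1) : ∃ c d u v : PSL(2, ZMod 7),
    c * c * c = 1 ∧ d * d * d = 1 ∧ c * s = u * c ∧ d * s = v * d ∧ c * u = s * u * c ∧ d * v = s * v * d ∧
    u * v = s * v * u ∧ ∀ e, e * s = s * e → e * e * (e * e) = 1 ∧ ((e = 1 ∨ e = s) ∨ (e * u = 1 ∨ e * u = s) ∨
      (e * v = 1 ∨ e * v = s) ∨ (e * (u * v) = 1 ∨ e * (u * v) = s)) := by
  obtain ⟨k, rfl⟩ := isConj_iff.1 (conj (a := proj (mk 0 6 1 0 (by decide)))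
    (by rw [← map_mul, ← map_one proj, proj_eq_iff]; simp only [ent]; decide)
    (by rw [← map_one proj, Ne, proj_eq_iff]; simp only [ent]; decide) s2 s1)
  rw [← MulAut.conj_apply]
  generalize MulAut.conj k = φ
  have o : ∀ x : SL(2, ZMod 7), φ (proj x) = 1 ↔ x = 1 ∨ x = -1 := fun x => by
    rw [φ.map_eq_one_iff, proj_eq_one_iff, mem_center_iff']
  refine ⟨φ (proj (mk 0 2 3 6 (by decide))), φ (proj (mk 0 4 5 6 (by decide))), φ (proj (mk 5 3 3 2 (by decide))),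
    φ (proj (mk 3 5 5 4 (by decide))), ?_, ?_, ?_, ?_, ?_, ?_, ?_, fun e => ?_⟩
  iterate 7
    simp only [← map_mul, o, φ.injective.eq_iff, proj_eq_iff, ent]
    decide
  obtain ⟨e, rfl⟩ := φ.surjective e
  obtain ⟨e, rfl⟩ := proj_surjective e
  have := det_eq e
  simp only [← map_mul, o, φ.injective.eq_iff, proj_eq_iff, ent]
  generalize e 0 0 = a, e 0 1 = b, e 1 0 = c, e 1 1 = d at this ⊢
  revert a b c d
  decide +kernel

theorem four {e : PSL(2, ZMod 7)} {k : ℕ} (h : e ^ 2 ^ k = 1) : e * e * (e * e) = 1 := by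
  induction k with
  | zero => rw [show e = 1 by simpa using h]; simp
  | succ k ih =>
    by_cases f : e ^ 2 ^ k = 1
    · exact ih f
    obtain ⟨c, d, u, v, -, -, -, -, -, -, -, r⟩ := facts (by rwa [← pow_two, ← pow_mul, ← pow_succ]) f
    exact (r e ((Commute.refl e).pow_right _)).1

theorem sqM {t a b : G} (t2 : t * t = 1) (h : Md t a b) (a2 : a * a = 1) (c : a * t = t * a) : b * b = 1 := by
  rcases h.symm t2 with e | e <;> rw [e]
  exacts [a2, sq_of_comm a2 t2 c]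

end TR3

theorem Hy.tr3 {a i z t g h : G} (H : Hy a i z t g h)
    (e : (_ ⧸ Zt t) ≃* Matrix.ProjectiveSpecialLinearGroup (Fin 2) (ZMod 7)) :
    ∃ z1 z2 γ δ, C3 z t z1 z2 γ δ := by
  have : Fact (Nat.Prime 2) := ⟨Nat.prime_two⟩
  have mC : ∀ {x : G}, x ∈ centralizer ({t} : Set G) ↔ x * t = t * x := mem_centralizer_singleton_iff
  let f := e.toMonoidHom.comp (QuotientGroup.mk' (Zt t))
  have sj : Function.Surjective f := e.surjective.comp (QuotientGroup.mk'_surjective _)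
  have fe : ∀ x y, f x = f y ↔ Md t (x : G) y := fun x y => by
    refine e.injective.eq_iff.trans (eq_comm.trans (QuotientGroup.eq.trans (mem_Zt.trans ((mem_zt H.t2).trans ?_))))
    rw [coe_mul, coe_inv, inv_mul_eq_one, inv_mul_eq_iff_eq_mul, eq_comm]; rfl
  have cC : Nat.card (centralizer ({t} : Set G)) = 336 := by
    have c1 := H10.card_PSL_two (F := ZMod 7)
    rw [Nat.card_zmod] at c1
    rw [card_eq_card_quotient_mul_card_subgroup (Zt t), Nat.card_congr e.toEquiv, Zt,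
      Nat.card_congr (subgroupOfEquivOfLe (zpowers_le.2 (mC.2 rfl))).toEquiv, card_zt H.t2 H.t1]
    norm_num at c1 ⊢; omega
  have bd : ∀ Y : Subgroup (centralizer ({t} : Set G)), IsPGroup 2 Y → Nat.card Y ∣ 16 := fun Y pY => by
    obtain ⟨k, hk⟩ := pY.exists_card_eq
    have := card_subgroup_dvd_card Y
    rw [cC, hk] at this
    exact hk ▸ (Nat.Coprime.pow_left k (by norm_num : Nat.Coprime 2 21)).dvd_of_dvd_mul_right this
  have l3 : ∀ c, c * c * c = 1 → ∃ γ, γ * γ * γ = 1 ∧ f γ = c := fun c c3 => by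
    obtain ⟨c, rfl⟩ := sj c
    refine ⟨c ^ 4, ?_, by rw [map_pow, pow_succ, pow_three', c3, one_mul]⟩
    have := TR3.sqM H.t2 ((fe 1 (c ^ 3)).1 (by rw [map_pow, pow_three', c3, map_one])) (one_mul _) (mC.1 (one_mem _))
    rw [← pow_three', ← pow_mul, show 4 * 3 = (3 + 3) * 2 from rfl, pow_mul, pow_add,
      show c ^ 3 * c ^ 3 = 1 from Subtype.ext this, one_pow]
  let Z : centralizer ({t} : Set G) := ⟨z, mC.2 H.zt⟩
  have s2 : f Z * f Z = 1 := by rw [← map_mul, show Z * Z = 1 from Subtype.ext H.z2, map_one]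
  have s1 : f Z ≠ 1 := fun r => ((fe Z 1).1 (r.trans (map_one f).symm)).elim H.z1 fun r => H.zt1 (r.trans (one_mul t))
  have mV : ∀ x, f x = 1 ∨ f x = f Z → (x : G) ∈ V4 t z := fun x r => (V4_cases H.t2 H.z2 H.zt).2 (by
    rw [← or_assoc]
    exact r.imp (fun r => ((fe x 1).1 (r.trans (map_one f).symm)).imp_right fun r => r.trans (one_mul t)) (fe x Z).1)
  obtain ⟨c, d, u, v, c3, d3, e1, e2, e3, e4, e5, e6⟩ := TR3.facts s2 s1
  obtain ⟨γ, γ3, rfl⟩ := l3 c c3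
  obtain ⟨δ, δ3, rfl⟩ := l3 d d3
  obtain rfl := mul_inv_eq_iff_eq_mul.2 e1
  obtain rfl := mul_inv_eq_iff_eq_mul.2 e2
  rw [← mul_inv_eq_iff_eq_mul] at e3 e4 e5
  simp only [← map_inv, ← map_mul] at e3 e4 e5 e6
  have n1 : ∀ γ : centralizer ({t} : Set G), f (γ * (γ * Z * γ⁻¹) * γ⁻¹) = f (Z * (γ * Z * γ⁻¹)) → (γ : G) ≠ 1 :=
    fun γ r o => s1 (by simpa [show γ = 1 from Subtype.ext o] using r)
  have cm : ∀ γ : centralizer ({t} : Set G), f (γ * (γ * Z * γ⁻¹) * γ⁻¹) = f (Z * (γ * Z * γ⁻¹)) →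
      z * (γ * z * (γ : G)⁻¹) = γ * z * (γ : G)⁻¹ * z := fun γ r => comm_of_sq H.z2 (sq_cj H.z2 _)
        (TR3.sqM H.t2 ((fe _ _).1 r) (sq_cj (sq_cj H.z2 _) _) (mC.1 (γ * (γ * Z * γ⁻¹) * γ⁻¹).2))
  refine ⟨γ * z * (γ : G)⁻¹, δ * z * (δ : G)⁻¹, γ, δ, congrArg Subtype.val γ3, n1 γ e3, mC.1 γ.2,
    congrArg Subtype.val δ3, n1 δ e4, mC.1 δ.2, rfl, rfl, cm γ e3, cm δ e4, (fe _ _).1 e3, (fe _ _).1 e4,
    (fe _ _).1 e5, fun c ct cz => ?_, fun Y pY c => ?_, fun c ct ⟨k, hk⟩ => ?_, fun Y y2 c => ?_⟩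
  · have := (e6 (f ⟨c, mC.2 ct⟩) (by rw [← map_mul, ← map_mul]; exact congrArg f (Subtype.ext cz))).2
    simp only [← map_mul] at this
    exact this.imp (mV _) (Or.imp (mV _) (Or.imp (mV _) (mV _)))
  · rw [← Nat.card_congr (subgroupOfEquivOfLe fun y hy => mC.2 (c y hy)).toEquiv]
    exact Nat.le_of_dvd (by norm_num) (bd _ pY.comap_subtype)
  · let x : centralizer ({t} : Set G) := ⟨c, mC.2 ct⟩
    have q := TR3.four (e := f x) (k := k) (by rw [← map_pow, show x ^ 2 ^ k = 1 from Subtype.ext hk, map_one])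
    rw [show 4 = 2 * 2 from rfl, pow_mul, pow_two, pow_two]
    by_cases r : f x * f x = 1
    · exact TR3.sqM H.t2 ((fe 1 (x * x)).1 (by rw [map_mul, r, map_one])) (one_mul _) (mC.1 (one_mem _))
    · obtain ⟨l, hl⟩ := isConj_iff.1 (TR3.conj s2 s1 q r)
      obtain ⟨l, rfl⟩ := sj l
      exact TR3.sqM H.t2 ((fe (l * Z * l⁻¹) (x * x)).1 (by simpa only [map_mul, map_inv] using hl)) (sq_cj H.z2 _)
        (mC.1 (l * Z * l⁻¹).2)
  · rw [← Nat.card_congr (subgroupOfEquivOfLe fun y hy => mC.2 (c y hy)).toEquiv]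
    by_contra n
    obtain ⟨P, hP⟩ := IsPGroup.exists_le_sylow (p := 2) (P := Y.subgroupOf (centralizer ({t} : Set G)))
      fun x => ⟨1, Subtype.ext (Subtype.ext (by simpa [pow_two] using y2 _ x.2))⟩
    have eP : Y.subgroupOf (centralizer ({t} : Set G)) = P := eq_of_le_of_card_ge hP (by
      have h1 := Nat.le_of_dvd (by norm_num) (bd _ P.2)
      obtain ⟨m, hm⟩ := (card_dvd_of_le hP).trans (bd _ P.2)
      rcases m with _ | _ | m
      exacts [by omega, by omega, by nlinarith])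
    have q1 : γ * Z * γ⁻¹ * (γ * Z * γ⁻¹) = 1 := Subtype.ext (sq_cj H.z2 _)
    have q2 : δ * Z * δ⁻¹ * (δ * Z * δ⁻¹) = 1 := Subtype.ext (sq_cj H.z2 _)
    generalize γ * Z * γ⁻¹ = x at q1 e5
    generalize δ * Z * δ⁻¹ = y at q2 e5
    have w2 : f (x * y * (x * y)) = f Z := by
      rw [show x * y * (x * y) = x * y * x⁻¹ * y by rw [inv_self q1, mul_assoc (x * y)], map_mul, e5, ← map_mul,
        mul_assoc, q2, mul_one]
    obtain ⟨k, -, hk⟩ := H72.exists_conj_mem_sylow_of_le P le_top (E2.of_mul_self (a := x * y) (.of_sq (Subtype.ext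
      (TR3.sqM H.t2 ((fe _ _).1 w2.symm) H.z2 H.zt)))).pg le_top
    have := y2 _ (eP.ge (hk _ (mem_zpowers _)))
    rw [← w2, show x * y * (x * y) = 1 from
      conj_eq_one_iff.1 ((conj_mul.symm).trans (Subtype.ext this : k * (x * y) * k⁻¹ * (k * (x * y) * k⁻¹) = 1)),
      map_one] at s1
    exact s1 rfl

end H58.ME
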