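import Mathlib
import Cfsg.Agent.Lib.M11T.TR1
import Cfsg.Agent.Lib.M11T.TR2
import Cfsg.Agent.Lib.M11T.TR3

set_option autoImplicit false
set_option linter.unusedSectionVars false
set_option linter.unusedVariables false

namespace H58.ME

open Subgroup H70 H50.SC6

variable {G : Type*} [Group G] [Finite G]

theorem TRI.bar_cent {t y : G} (t2 : t * t = 1) (y3 : y * y * y = 1)
    (yt : y * t = t * y) (six : Six t y) (Y : centralizer ({t} : Set G)) (hY : (Y : G) = y) :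
    centralizer ((zpowers (Y : _ ⧸ Zt t) : Subgroup (_ ⧸ Zt t)) : Set (_ ⧸ Zt t)) = zpowers (Y : _ ⧸ Zt t) := by
  subst hY
  refine le_antisymm (fun g hg => ?_) (zpowers_le.2 (mem_centralizer_iff.2 ?_))
  · obtain ⟨g, rfl⟩ := QuotientGroup.mk_surjective g
    have := mem_centralizer_iff.1 hg _ (mem_zpowers _)
    rw [← mul_inv_eq_one, mul_inv_rev, ← mul_assoc, ← QuotientGroup.mk_inv, ← QuotientGroup.mk_inv,
      ← QuotientGroup.mk_mul, ← QuotientGroup.mk_mul, ← QuotientGroup.mk_mul, QuotientGroup.eq_one_iff] at this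
    obtain ⟨n, hn, e⟩ := exists_fix_coset (pg2 t2) y3 (nm_zt t2 yt) (x := g) this
    have nt : n * t = t * n := by rcases (mem_zt t2).1 hn with e | e <;> simp [e]
    obtain ⟨k, hk⟩ := six (n * g)
      ((show Commute n t from nt).mul_left (mem_centralizer_singleton_iff.1 g.2)) e.symm
    refine ⟨k, ?_⟩
    show (Y : _ ⧸ Zt t) ^ (k : ℤ) = g
    rw [zpow_natCast, ← QuotientGroup.mk_pow, QuotientGroup.eq, mem_Zt]
    have c := nm_zt t2 ((show Commute (Y : G) t from yt).pow_left k).inv_left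
    show ((Y : G) ^ k)⁻¹ * g ∈ zpowers t
    rcases hk with e | e
    · have := c _ (inv_mem hn)
      rwa [inv_inv, ← e, mul_assoc, inv_mul_cancel_left, e] at this
    · have := c _ (mul_mem (inv_mem hn) (mem_zpowers t))
      rwa [inv_inv, mul_assoc, mul_assoc, ← e, inv_mul_cancel_left] at this
  · rintro _ ⟨k, rfl⟩
    exact (Commute.refl _).zpow_left k

theorem Hy.tri {a i z t g h : G} (H : Hy a i z t g h) :
    (∃ Q, C1 z t g Q) ∨ (∃ z1 γ Q T, C2 z t z1 γ Q T) ∨ ∃ z1 z2 γ δ, C3 z t z1 z2 γ δ := by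
  have o3 := bar3 H.t2 H.t1 H.g3 H.g1 H.gt
  have ng : ∀ {L : Type} [Group L] (f : centralizer ({t} : Set G) →* L) (N : Subgroup (_ ⧸ Zt t)),
      (Nat.card N).Coprime 3 → f.ker = N.comap (QuotientGroup.mk' (Zt t)) → g ∉ Kr f := fun f N h2 k m => by
    have m' := (mem_Kr f H.gt).1 m
    rw [← MonoidHom.mem_ker, k, mem_comap, QuotientGroup.mk'_apply] at m'
    have := orderOf_dvd_natCard N m'
    rw [o3] at this
    exact absurd (Nat.Coprime.eq_one_of_dvd h2.symm this) (by norm_num)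
  rcases Cfsg.Agent.S3331.result _ (by rw [Nat.card_zpowers, o3]) (TRI.bar_cent H.t2 H.g3 H.gt H.six ⟨g, _⟩ rfl) with
    ⟨N, hN, h1, h2, h3 | ⟨⟨e⟩⟩⟩ | ⟨N, hN, -, h2, ⟨e⟩⟩ | ⟨⟨e⟩⟩
  · have : Fact (Nat.Prime 3) := ⟨Nat.prime_three⟩
    obtain ⟨f, -, k⟩ := sj _ N (mulEquivOfPrimeCardEq (G' := Multiplicative (ZMod 3)) h3 (by simp))
    exact (H.fz f (ng f N h2 k) (mul_comm _ _)).elim
  · obtain ⟨f, hf, k⟩ := sj _ N e
    exact .inl (H.tr1 f (nil_Kr H.t2 f N h1 k) (ng f N h2 k) ((mem_Kr f rfl).2 (by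
      rw [← MonoidHom.mem_ker, k, mem_comap, QuotientGroup.mk'_apply,
        (QuotientGroup.eq_one_iff _).2 (mem_Zt.2 (mem_zpowers t))]
      exact one_mem _)))
  · obtain ⟨f, hf, k⟩ := sj _ N e
    refine .inr (.inl (H.tr2 ((alternatingGroup (Fin 5)).subtype.comp f) (by
      rw [MonoidHom.range_comp, MonoidHom.range_eq_top.2 hf, ← MonoidHom.range_eq_map, range_subtype]) ?_))
    rintro _ ⟨a, ha, rfl⟩
    have m : a ∈ f.ker := Subtype.ext ha
    rw [k, mem_comap, QuotientGroup.mk'_apply] at m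
    have := h2 _ m
    rw [← QuotientGroup.mk_pow, QuotientGroup.eq_one_iff, pow_two] at this
    exact this
  · exact .inr (.inr (H.tr3 e))

end H58.ME
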