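import Mathlib
import Cfsg.Agent.Lib.M11T.TRI
import Cfsg.Agent.Lib.M11T.MC
import Cfsg.Agent.Lib.M11T.XL
import Cfsg.Agent.Lib.M11T.I1
import Cfsg.Agent.Lib.M11T.I2B
import Cfsg.Agent.Lib.M11T.I3
import Cfsg.Agent.Lib.M11T.II2
import Cfsg.Agent.Lib.M11T.II3
import Cfsg.Agent.Lib.M11T.II5
import Cfsg.Agent.Lib.M11T.PA
import Cfsg.Agent.Lib.M11T.III1
import Cfsg.Agent.Lib.M11T.III3
import Cfsg.Agent.Lib.M11T.III4

/-! Under the standing hypothesis there is one class of involutions. -/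

set_option autoImplicit false

namespace H58.ME

open Subgroup H70 H50.SC6

variable {G : Type*} [Group G] [Finite G]

theorem Hy.main {a i z t g h : G} (H : Hy a i z t g h) (y : G) (y2 : y * y = 1) (y1 : y ≠ 1) : Tc t y := by
  rcases H.tri with ⟨Q, c⟩ | ⟨z1, γ, Q, T, c⟩ | ⟨z1, z2, γ, δ, c⟩
  · by_cases hD : D0 Q i = ⊥
    · exact H.mc (H.cv_V c hD) y2 y1
    obtain ⟨x, w, ρ, X⟩ := H.xl c.toB0 hD
    by_cases e : ∃ q ∈ Q, q * z * q⁻¹ = z * t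
    · obtain ⟨q, hq, e⟩ := e
      exact H.one (fun _ u2 u1 ut => H.a1 c X (H.cv_E c X) hq e u2 u1 ut) y2 y1
    · exact (H.b1 c X (H.cv_E c X) fun q hq e' => e ⟨q, hq, e'⟩).elim
  · by_cases hD : D0 Q i = ⊥
    · obtain ⟨f, e⟩ := H.ii4 c (H.ii3 c hD)
      obtain ⟨b, P, A, p⟩ := H.pa f
      exact (H.ii5 f p e).elim
    · obtain ⟨x, w, ρ, X⟩ := H.xl c.toB0 hD
      exact (H.ii2 c X).elim
  · obtain ⟨j1, j2, n⟩ := H.iii1 c
    obtain ⟨_, _, _, p1⟩ := H.pa n.f1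
    obtain ⟨_, _, _, p2⟩ := H.pa n.f2
    obtain ⟨b, b1, B1⟩ := H.bd n p1
    obtain ⟨β, b2, B2⟩ := H.bd (n.symm H) p2
    obtain ⟨k, u⟩ := H.ud n B1 B2
    exact (H.iii4 u).elim

end H58.ME
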