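import Mathlib
import Cfsg.Agent.Lib.M11T.Defs
import Cfsg.Agent.Lib.Odd.Mdl72

set_option autoImplicit false
set_option linter.unusedSectionVars false
set_option linter.unusedVariables false

namespace H58.ME

open Subgroup H70 H50.SC6

variable {G : Type*} [Group G] [Finite G]

namespace SET

open H53.Odd

set_option synthInstance.maxSize 2000 in
theorem mat : ∀ A : V9 × V9, (∀ p, (lin9 A)^[8] p = p) → (¬ ∀ p, (lin9 A)^[4] p = p) → ∀ T : V9 × V9,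
    (∀ p, (lin9 T)^[2] p = p) → (∀ p, lin9 T (lin9 A p) = (lin9 A)^[3] (lin9 T p)) →
    ∃ u : V9, u ≠ 0 ∧ ¬ ((lin9 A)^[2] u = 0 ∨ (lin9 A)^[2] u = u ∨ (lin9 A)^[2] u = -u) ∧ lin9 T u = u ∧
      (lin9 A)^[2] ((lin9 A)^[2] u) = -u ∧ lin9 T ((lin9 A)^[2] u) = -(lin9 A)^[2] u ∧
      ∀ v : V9, v ≠ 0 → ∃ k : Fin 8, (lin9 A)^[k.val] u = v := by
  decide +kernel

set_option synthInstance.maxSize 2000 in
theorem mat2 : ∀ X : V9 × V9, lin9 X (1, 0) = (1, 0) → (∀ p, lin9 X p = 0 → p = 0) →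
    (∀ p, (lin9 X)^[3] p = p) ∨ ∀ p, (fun p : V9 => lin9 X (p.1, -p.2))^[3] p = p := by
  decide +kernel

theorem three {x : G} {k : ℕ} (e : x ^ 3 ^ k = 1) : IsPGroup 3 (zpowers x) := by
  rintro ⟨_, n, rfl⟩
  exact ⟨k, Subtype.ext (by
    show (x ^ n) ^ 3 ^ k = 1
    rw [← zpow_natCast, ← zpow_mul, mul_comm, zpow_mul, zpow_natCast, e, one_zpow])⟩

theorem mem_syl (M : Sylow 3 G) {x : G} (xN : x ∈ normalizer ((M : Subgroup G) : Set G)) (e : x ^ 9 = 1) :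
    x ∈ (M : Subgroup G) := by
  have := M.is_maximal' (M.isPGroup'.to_sup_of_normal_left' (three (k := 2) e) (zpowers_le.2 xN)) le_sup_left
  exact this.le (mem_sup_right (mem_zpowers x))

theorem conj_syl (M : Sylow 3 G) {ρ : G} (e : ρ * ρ * ρ = 1) : ∃ c, c * ρ * c⁻¹ ∈ (M : Subgroup G) := by
  obtain ⟨Q, hQ⟩ := (three (x := ρ) (k := 1) (by rw [pow_one, pow_three', e])).exists_le_sylow
  obtain ⟨c, hc⟩ := MulAction.exists_smul_eq G Q M
  refine ⟨c, ?_⟩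
  rw [← hc, Sylow.coe_subgroup_smul]
  exact smul_mem_pointwise_smul ρ (MulAut.conj c) _ (hQ (mem_zpowers ρ))

end SET

open H53.Odd SET in
theorem exists_hy (no2 : ∀ N : Subgroup G, N.index ≠ 2) (M : Sylow 3 G) (hM9 : Nat.card (M : Subgroup G) = 9)
    (hMel : ∀ m ∈ (M : Subgroup G), m ^ 3 = 1)
    (hCM : centralizer ((M : Subgroup G) : Set G) = (M : Subgroup G))
    (hCg : ∀ g ∈ (M : Subgroup G), g ≠ 1 → centralizer ({g} : Set G) ≤ normalizer ((M : Subgroup G) : Set G))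
    {a t : G} (aN : a ∈ normalizer ((M : Subgroup G) : Set G)) (tN : t ∈ normalizer ((M : Subgroup G) : Set G))
    (oa : orderOf a = 8) (ot : orderOf t = 2) (ta : t * a * t⁻¹ = a ^ 3) :
    ∃ g h, Hy a (a * a) (a * a * (a * a)) t g h := by
  have hc : ∀ a ∈ (M : Subgroup G), ∀ b ∈ (M : Subgroup G), a * b = b * a := fun a ha b hb =>
    (hCM.ge hb : b ∈ centralizer _) a ha
  have a8 : a ^ 8 = 1 := oa ▸ pow_orderOf_eq_one a
  have t2 : t ^ 2 = 1 := ot ▸ pow_orderOf_eq_one t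
  have a4 : a ^ 4 ∉ (M : Subgroup G) := fun e => by
    have e1 := hMel _ e
    rw [← pow_mul] at e1
    have := orderOf_dvd_of_pow_eq_one e1
    rw [oa] at this
    omega
  obtain ⟨a0, ha0, b0, hb0, a1, b1⟩ := exists_gens9 hM9 hMel
  obtain ⟨hA0, hi0, hm0⟩ := par9 hM9 hc hMel ha0 hb0 a1 b1
  obtain ⟨A, hA⟩ := exists_lin9 hA0 hm0 aN
  obtain ⟨T, hT⟩ := exists_lin9 hA0 hm0 tN
  obtain ⟨u, u0, u1, u2, u3, u4, u5⟩ := mat A (fun p => hi0 (by rw [← conj_iter hA, a8]; group))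
    (fun e => a4 (hCM.le fun x hx => by
      obtain ⟨p, rfl⟩ := (hm0 x).1 hx
      have := conj_iter hA 4 p
      rw [e, mul_inv_eq_iff_eq_mul] at this
      exact this.symm)) T
    (fun p => hi0 (by rw [← conj_iter hT, t2]; group))
    (fun p => hi0 (by rw [← conj_iter hA, ← hT, ← hA, ← hT, ← ta]; group))
  have hg : f9 a0 b0 u ∈ (M : Subgroup G) := (hm0 _).2 ⟨_, rfl⟩
  have g1 : f9 a0 b0 u ≠ 1 := fun e => u0 (hi0 (e.trans hA0.zero.symm))
  obtain ⟨hB, hi, hm⟩ := par9 hM9 hc hMel hg ((hm0 _).2 ⟨(lin9 A)^[2] u, rfl⟩) g1 (by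
      rw [mem_zpowers_three (hMel _ hg), ← hA0.zero, ← hA0.neg]
      simpa only [hi0.eq_iff] using u1)
  have ea := conj_iter hA 2 u
  have eb := conj_iter hA 2 ((lin9 A)^[2] u)
  have ec := hT u
  have ed := hT ((lin9 A)^[2] u)
  have tr : ∀ m ∈ (M : Subgroup G), m ≠ 1 → ∃ c, c * f9 a0 b0 u * c⁻¹ = m := fun m hm m1 => by
    obtain ⟨v, rfl⟩ := (hm0 m).1 hm
    obtain ⟨k, rfl⟩ := u5 v fun e => m1 (e ▸ hA0.zero)
    exact ⟨a ^ k.val, conj_iter hA _ u⟩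
  have hh : f9 a0 b0 ((lin9 A)^[2] u) ∈ (M : Subgroup G) := (hm0 _).2 ⟨_, rfl⟩
  rw [u3, hA0.neg] at eb
  rw [u2] at ec
  rw [u4, hA0.neg] at ed
  generalize f9 a0 b0 ((lin9 A)^[2] u) = h at *
  generalize f9 a0 b0 u = g at *
  rw [pow_two] at ea eb t2
  have cs : ∀ p, t * f9 g h p * t⁻¹ = f9 g h (p.1, -p.2) := fun p => by
    rw [conj_f9 hB (u := (1, 0)) (v := -(0, 1)) (by rw [f9_10, ec]) (by rw [hB.neg, f9_01, ed])]
    exact congrArg _ ((by decide +kernel : ∀ p, lin9 ((1, 0), -(0, 1)) p = (p.1, -p.2)) p)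
  have key : ∀ x ∈ normalizer ((M : Subgroup G) : Set G), ∀ F : V9 → V9,
      (∀ p, x * f9 g h p * x⁻¹ = f9 g h (F p)) → (∀ p, F^[3] p = p) → ∃ j k : ℕ, x = g ^ j * h ^ k :=
    fun x xN F hF F3 => by
      have x3 : x ^ 3 ∈ (M : Subgroup G) := hCM.le fun y hy => by
        obtain ⟨p, rfl⟩ := (hm y).1 hy
        have := conj_iter hF 3 p
        rw [F3, mul_inv_eq_iff_eq_mul] at this
        exact this.symm
      obtain ⟨p, hp⟩ := (hm x).1 (mem_syl M xN (by rw [show 9 = 3 * 3 from rfl, pow_mul, hMel _ x3]))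
      exact ⟨_, _, hp.symm⟩
  refine ⟨g, h, rfl, rfl, ?_, t2, ?_, ?_, g1, hc _ hg _ hh, ea, eb, (comm_of_cj ec).symm, ed, fun x xg => ?_,
    fun ρ r3 r1 => ?_, no2⟩
  · rw [← a8]; simp only [pow_succ, pow_zero, one_mul, mul_assoc]
  · rw [ta, pow_three]
  · rw [← pow_three', hMel g hg]
  · have xN := hCg g hg g1 (mem_centralizer_singleton_iff.2 xg)
    obtain ⟨X, hX⟩ := exists_lin9 hB hm xN
    rcases mat2 X (hi (by rw [← hX, f9_10, cj_eq xg])) (fun p e => hi (by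
      have := hX p
      rw [e, hB.zero] at this
      rw [hB.zero]; simpa using this)) with e | e
    · obtain ⟨j, k, e⟩ := key x xN _ hX e
      exact ⟨j, k, Or.inl e⟩
    · obtain ⟨j, k, e⟩ := key (x * t) (mul_mem xN tN) _ (fun p => by rw [← hX, ← cs]; group) e
      exact ⟨j, k, Or.inr (by rw [← e, mul_assoc, t2, mul_one])⟩
  · obtain ⟨c, hc⟩ := conj_syl M r3
    obtain ⟨d, hd⟩ := tr _ hc (cj_ne_one r1 c)
    exact ⟨c⁻¹ * d, by
      calc _ = c⁻¹ * (d * g * d⁻¹) * c := by group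
        _ = ρ := by rw [hd]; group⟩

end H58.ME
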